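import Groth.Prelude.Def_CAlg
import Groth.Agent.H1CAlg.FlatDepthModule
import Groth.Agent.H4Depth.LocDepth
import Groth.Agent.H24Adic.CompletionNoetherian
import Mathlib.RingTheory.AdicCompletion.AsTensorProduct
import Mathlib.RingTheory.AdicCompletion.Completeness

/-!
# Depth at a prime computed in an adic completion of a localization
-/

set_option autoImplicit false

universe u

open IsLocalRing LocCoh
open scoped TensorProduct

namespace Groth.Agent.H26Boot

/-- Depth is unchanged by a flat extension at a minimal prime of the fibre. -/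
theorem depth_localization_eq {A B : Type u} [CommRing A] [IsNoetherianRing A] [CommRing B]
    [IsNoetherianRing B] [Algebra A B] [Module.Flat A B] (M : Type u) [AddCommGroup M] [Module A M]
    [Module.Finite A M] (p : Ideal A) [p.IsPrime] (P : Ideal B) [P.IsPrime] [P.LiesOver p]
    (hP : P ∈ (p.map (algebraMap A B)).minimalPrimes) :
    LocCoh.depth (Localization.AtPrime P) (Localization.AtPrime P ⊗[A] M) =
      LocCoh.depth (Localization.AtPrime p) (LocalizedModule p.primeCompl M) := by
  let Ap := Localization.AtPrime p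
  let S := Localization.AtPrime P
  have hPp : p = P.comap (algebraMap A B) := Ideal.over_def P p
  letI : Algebra Ap S := (Localization.localRingHom p P (algebraMap A B) hPp).toAlgebra
  haveI : IsLocalHom (algebraMap Ap S) := Localization.isLocalHom_localRingHom _ _ _ _
  haveI : IsScalarTower A Ap S := IsScalarTower.of_algebraMap_eq fun a => by
    show _ = Localization.localRingHom p P (algebraMap A B) hPp (algebraMap A Ap a)
    rw [Localization.localRingHom_to_map, ← IsScalarTower.algebraMap_apply]
  haveI : Module.Flat A S := Module.Flat.trans A B S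
  haveI : Module.Flat Ap S := (Module.flat_iff_of_isLocalization Ap p.primeCompl S).2 ‹_›
  haveI : Module.Finite Ap (LocalizedModule p.primeCompl M) :=
    Module.Finite.of_isLocalizedModule p.primeCompl (LocalizedModule.mkLinearMap p.primeCompl M)
  let e : S ⊗[A] M ≃ₗ[S] S ⊗[Ap] LocalizedModule p.primeCompl M :=
    (TensorProduct.AlgebraTensorModule.cancelBaseChange A Ap S S M).symm.trans
      (TensorProduct.AlgebraTensorModule.congr (LinearEquiv.refl S S)
        (LocalizedModule.equivTensorProduct p.primeCompl M).symm)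
  rw [H4Depth.depth_congr e, H1CAlg.FlatDepthModule.depth_tensor]
  set J := (maximalIdeal Ap).map (algebraMap Ap S) with hJ
  haveI : Nontrivial (S ⧸ J • (⊤ : Submodule S S)) := Submodule.Quotient.nontrivial_iff.mpr
    (H1CAlg.FlatDepthModule.smul_top_ne_top (((IsLocalRing.local_hom_TFAE (algebraMap Ap S)).out 0 2).mp ‹IsLocalHom (algebraMap Ap S)›))
  have hd : Module.supportDim S (S ⧸ J • (⊤ : Submodule S S)) ≤ 0 := by
    rw [Ideal.smul_eq_mul, Ideal.mul_top, Module.supportDim_quotient_eq_ringKrullDim]
    have hJeq : J = (p.map (algebraMap A B)).map (algebraMap B S) := by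
      rw [hJ, ← Localization.AtPrime.map_eq_maximalIdeal, Ideal.map_map, Ideal.map_map,
        ← IsScalarTower.algebraMap_eq, ← IsScalarTower.algebraMap_eq]
    have hsub : ∀ K : Ideal S, K.IsPrime → J ≤ K → K = maximalIdeal S := fun K hK hJK => by
      refine le_antisymm (IsLocalRing.le_maximalIdeal hK.ne_top) ?_
      have hKB : (K.comap (algebraMap B S)) ≤ P := by
        refine (Ideal.comap_mono (IsLocalRing.le_maximalIdeal hK.ne_top)).trans ?_
        exact (IsLocalization.AtPrime.comap_maximalIdeal S P).le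
      have hpK : p.map (algebraMap A B) ≤ K.comap (algebraMap B S) :=
        Ideal.map_le_iff_le_comap.1 (hJeq ▸ hJK)
      have := hP.2 ⟨hK.comap _, hpK⟩ hKB
      calc maximalIdeal S = P.map (algebraMap B S) := (Localization.AtPrime.map_eq_maximalIdeal).symm
        _ ≤ (K.comap (algebraMap B S)).map (algebraMap B S) := Ideal.map_mono this
        _ ≤ K := Ideal.map_comap_le
    haveI : Ring.KrullDimLE 0 (S ⧸ J) := Ring.KrullDimLE.mk₀ fun Q hQ => by
      have hQ' := hsub (Q.comap (Ideal.Quotient.mk J)) (hQ.comap _) fun x hx => by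
        rw [Ideal.mem_comap, Ideal.Quotient.eq_zero_iff_mem.2 hx]; exact Q.zero_mem
      rw [← Ideal.map_comap_of_surjective _ Ideal.Quotient.mk_surjective Q, hQ']
      exact (Ideal.map_eq_top_or_isMaximal_of_surjective _ Ideal.Quotient.mk_surjective
        (maximalIdeal.isMaximal S)).resolve_left fun h => hQ.ne_top (by
          rw [← Ideal.map_comap_of_surjective _ Ideal.Quotient.mk_surjective Q, hQ', h])
    exact Ring.krullDimLE_iff.1 inferInstance
  have h0 := (H4Depth.depth_le_supportDim (R := S) (M := S ⧸ J • (⊤ : Submodule S S))).trans hd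
  have h1 : LocCoh.depth S (S ⧸ J • (⊤ : Submodule S S)) = 0 :=
    nonpos_iff_eq_zero.1 (WithBot.coe_le_coe.1 h0)
  rw [h1, add_zero]

/-- The completion of a noetherian local ring along a proper ideal: the closed point lies over the closed point. -/
theorem isMaximal_map_completion {R : Type u} [CommRing R] [IsLocalRing R] [IsNoetherianRing R] (I : Ideal R)
    (hI : I ≤ maximalIdeal R) :
    ((maximalIdeal R).map (algebraMap R (AdicCompletion I R))).IsMaximal := by
  let f := (AdicCompletion.evalOneₐ I).toRingHom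
  have hs : Function.Surjective f := AdicCompletion.evalOneₐ_surjective I
  have hk : RingHom.ker f = I.map (algebraMap R (AdicCompletion I R)) :=
    AdicCompletion.ker_evalOneₐ_eq_map I (IsNoetherian.noetherian _)
  have hc : (maximalIdeal R).map (algebraMap R (AdicCompletion I R)) =
      ((maximalIdeal R).map (Ideal.Quotient.mk I)).comap f := by
    have h : ((maximalIdeal R).map (algebraMap R (AdicCompletion I R))).map f =
        (maximalIdeal R).map (Ideal.Quotient.mk I) := by
      rw [Ideal.map_map, AdicCompletion.evalOneₐ_comp_algebraMap_eq_mk]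
    rw [← h, Ideal.comap_map_of_surjective f hs, ← RingHom.ker_eq_comap_bot, hk,
      sup_eq_left.2 (Ideal.map_mono hI)]
  rw [hc]
  haveI : Nontrivial (R ⧸ I) :=
    Ideal.Quotient.nontrivial_iff.2 fun h => (maximalIdeal.isMaximal R).ne_top (top_le_iff.1 (h ▸ hI))
  haveI : IsLocalRing (R ⧸ I) := IsLocalRing.of_surjective' (Ideal.Quotient.mk I) Ideal.Quotient.mk_surjective
  haveI : ((maximalIdeal R).map (Ideal.Quotient.mk I)).IsMaximal :=
    (Ideal.map_eq_top_or_isMaximal_of_surjective _ Ideal.Quotient.mk_surjective (maximalIdeal.isMaximal R)).resolve_left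
      fun h => by
        have h2 := congrArg (Ideal.comap (Ideal.Quotient.mk I)) h
        rw [Ideal.comap_map_of_surjective _ Ideal.Quotient.mk_surjective, Ideal.comap_top,
          ← RingHom.ker_eq_comap_bot, Ideal.mk_ker, sup_eq_left.2 hI] at h2
        exact (maximalIdeal.isMaximal R).ne_top h2
  exact Ideal.comap_isMaximal_of_surjective f hs

/-- If all completions of localizations at points of `T` have depth `> s` at the primes meeting `V(I)` only
in closed points, then so has `M` at the primes outside `V(I)` generizing only points of `T` in `V(I)`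
below a given point of `T`. -/
theorem depth_gt {A : Type u} [CommRing A] [IsNoetherianRing A] (I : Ideal A) (M : Type u) [AddCommGroup M]
    [Module A M] [Module.Finite A M] (T : Set (PrimeSpectrum A)) (hTI : T ⊆ PrimeSpectrum.zeroLocus (I : Set A))
    (s : ℕ)
    (h6 : ∀ q : PrimeSpectrum A, q ∈ T → ∀ p' : PrimeSpectrum (AdicCompletion (I.map (algebraMap A (Localization.AtPrime q.asIdeal))) (Localization.AtPrime q.asIdeal)), ¬ (I.map (algebraMap A (AdicCompletion (I.map (algebraMap A (Localization.AtPrime q.asIdeal))) (Localization.AtPrime q.asIdeal)))) ≤ p'.asIdeal → (∀ q' : PrimeSpectrum (AdicCompletion (I.map (algebraMap A (Localization.AtPrime q.asIdeal))) (Localization.AtPrime q.asIdeal)), p' ≤ q' → (I.map (algebraMap A (AdicCompletion (I.map (algebraMap A (Localization.AtPrime q.asIdeal))) (Localization.AtPrime q.asIdeal)))) ≤ q'.asIdeal → q'.asIdeal.IsMaximal) → (s : ℕ∞) < LocCoh.depth (Localization.AtPrime p'.asIdeal) (LocalizedModule p'.asIdeal.primeCompl (AdicCompletion (I.map (algebraMap A (Localization.AtPrime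 q.asIdeal))) (LocalizedModule q.asIdeal.primeCompl M))))
    (p q : PrimeSpectrum A) (hpq : p ≤ q) (hp : ¬ I ≤ p.asIdeal) (hq : q ∈ T)
    (hr : ∀ r : PrimeSpectrum A, p ≤ r → r ≤ q → I ≤ r.asIdeal → r ∈ T) :
    (s : ℕ∞) < LocCoh.depth (Localization.AtPrime p.asIdeal) (LocalizedModule p.asIdeal.primeCompl M) := by
  -- shrink `q` to a minimal prime over `p + I`
  obtain ⟨r, hrmin, hrq⟩ := Ideal.exists_minimalPrimes_le (I := p.asIdeal ⊔ I) (J := q.asIdeal)
    (sup_le hpq (hTI hq))
  haveI := hrmin.1.1
  have hpr : p.asIdeal ≤ r := le_sup_left.trans hrmin.1.2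
  have hIr : I ≤ r := le_sup_right.trans hrmin.1.2
  have hrT : (⟨r, hrmin.1.1⟩ : PrimeSpectrum A) ∈ T := hr _ hpr hrq hIr
  let R := Localization.AtPrime r
  let IR := I.map (algebraMap A R)
  let Rh := AdicCompletion IR R
  have hIR : IR ≤ maximalIdeal R := by
    rw [← Localization.AtPrime.map_eq_maximalIdeal]; exact Ideal.map_mono hIr
  haveI : IsNoetherianRing Rh := H24Adic.isNoetherianRing_adicCompletion IR
  haveI : Module.Flat A Rh := Module.Flat.trans A R Rh
  have hmax : ((maximalIdeal R).map (algebraMap R Rh)).IsMaximal := isMaximal_map_completion IR hIR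
  -- a prime over `p`
  have hne : p.asIdeal.map (algebraMap A Rh) ≠ ⊤ := fun h => hmax.ne_top <| top_le_iff.1 <| by
    rw [← h, IsScalarTower.algebraMap_eq A R Rh, ← Ideal.map_map, ← Localization.AtPrime.map_eq_maximalIdeal]
    exact Ideal.map_mono (Ideal.map_mono hpr)
  obtain ⟨P, hP⟩ := Ideal.nonempty_minimalPrimes hne
  haveI := hP.1.1
  have hover : P.comap (algebraMap A Rh) = p.asIdeal := by
    refine le_antisymm ?_ (Ideal.map_le_iff_le_comap.1 hP.1.2)
    by_contra hle
    have hlt : p.asIdeal < P.comap (algebraMap A Rh) :=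
      lt_of_le_not_ge (Ideal.map_le_iff_le_comap.1 hP.1.2) hle
    haveI : P.LiesOver (P.comap (algebraMap A Rh)) := ⟨rfl⟩
    obtain ⟨Q, hQP, hQ, hQo⟩ := Ideal.exists_ideal_lt_liesOver_of_lt P hlt
    have hQle : P ≤ Q := hP.2 ⟨hQ, Ideal.map_le_iff_le_comap.2 (Ideal.over_def Q p.asIdeal).le⟩ hQP.le
    exact absurd (lt_of_lt_of_le hQP hQle) (lt_irrefl Q)
  haveI : P.LiesOver p.asIdeal := ⟨hover.symm⟩
  let P' : PrimeSpectrum Rh := ⟨P, inferInstance⟩
  have hP1 : ¬ I.map (algebraMap A Rh) ≤ P'.asIdeal := fun h => hp (hover ▸ Ideal.map_le_iff_le_comap.1 h)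
  have hP2 : ∀ q' : PrimeSpectrum Rh, P' ≤ q' → I.map (algebraMap A Rh) ≤ q'.asIdeal → q'.asIdeal.IsMaximal := by
    intro q' hPq hIq
    have hcm : q'.asIdeal.comap (algebraMap R Rh) = maximalIdeal R := by
      refine le_antisymm (IsLocalRing.le_maximalIdeal (Ideal.IsPrime.ne_top (Ideal.comap_isPrime _ _))) ?_
      rw [← Localization.AtPrime.map_eq_maximalIdeal, Ideal.map_le_iff_le_comap, Ideal.comap_comap,
        ← IsScalarTower.algebraMap_eq]
      have hle : q'.asIdeal.comap (algebraMap A Rh) ≤ r := by
        rw [IsScalarTower.algebraMap_eq A R Rh, ← Ideal.comap_comap]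
        exact (Ideal.comap_mono (IsLocalRing.le_maximalIdeal (Ideal.IsPrime.ne_top (Ideal.comap_isPrime _ _)))).trans
          (IsLocalization.AtPrime.comap_maximalIdeal R r).le
      refine hrmin.2 ⟨Ideal.comap_isPrime _ _, sup_le ?_ (Ideal.map_le_iff_le_comap.1 hIq)⟩ hle
      rw [← hover]
      exact Ideal.comap_mono hPq
    have hle : (maximalIdeal R).map (algebraMap R Rh) ≤ q'.asIdeal := Ideal.map_le_iff_le_comap.2 hcm.ge
    rw [← hmax.eq_of_le q'.2.ne_top hle]
    exact hmax
  have h := h6 ⟨r, hrmin.1.1⟩ hrT P' hP1 hP2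
  let S := Localization.AtPrime P
  haveI : Module.Finite R (LocalizedModule r.primeCompl M) :=
    Module.Finite.of_isLocalizedModule r.primeCompl (LocalizedModule.mkLinearMap r.primeCompl M)
  let e1 : LocalizedModule P.primeCompl (AdicCompletion IR (LocalizedModule r.primeCompl M)) ≃ₗ[S]
      S ⊗[Rh] (Rh ⊗[R] LocalizedModule r.primeCompl M) :=
    (LocalizedModule.equivTensorProduct P.primeCompl _).trans
      (TensorProduct.AlgebraTensorModule.congr (LinearEquiv.refl S S)
        (AdicCompletion.ofTensorProductEquivOfFiniteNoetherian IR (LocalizedModule r.primeCompl M)).symm)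
  let e2 : S ⊗[Rh] (Rh ⊗[R] LocalizedModule r.primeCompl M) ≃ₗ[S] S ⊗[A] M :=
    (TensorProduct.AlgebraTensorModule.cancelBaseChange R Rh S S _).trans
      ((TensorProduct.AlgebraTensorModule.congr (LinearEquiv.refl S S)
        (LocalizedModule.equivTensorProduct r.primeCompl M)).trans
        (TensorProduct.AlgebraTensorModule.cancelBaseChange A R S S M))
  rw [← depth_localization_eq M p.asIdeal P hP, ← H4Depth.depth_congr (e1.trans e2)]
  exact h

end Groth.Agent.H26Boot
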